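import Cfsg.Agent.Lib.Fischer.S22.R0
import Cfsg.Agent.Lib.Fischer.C22.Cl

set_option autoImplicit false
set_option maxRecDepth 100000

namespace Cfsg.Agent.Fi.S22

open Cfsg.Agent.PC

theorem h1 : ∀ i < 693, f1 i = 0 := by
  have h := zero_lt_zero f1
  have h := zero_lt_add (a := (nat_lit 0)) (n := (nat_lit 693)) (b := (nat_lit 693)) h u0 rfl
  exact h
theorem h2 : ∀ i < 3510, f2 i = 0 := by
  have h := zero_lt_zero f2
  have h := zero_lt_add (a := (nat_lit 0)) (n := (nat_lit 3510)) (b := (nat_lit 3510)) h v0 rfl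
  exact h
theorem rels_eq : C22.rels = relL T P Sf 8 RD a1 a2 a3 AR AB := by decide +kernel
theorem sm : smE T C22.T P P2 V Sf 693 3510 8 18 0 1 Wl Q1 Q3 = 0 := by decide +kernel
theorem re : relE T P V Sf 693 8 18 B RD a1 a2 a3 AR AB Q2 = 0 := by decide +kernel
theorem ok.{u} : StepOK.{u} T C22.T P P2 V V2 Sf 693 3510 8 18 23 B :=
  ⟨dsc_of fun i hi => (add_eq_zero' (add_eq_zero' (h1 i hi)).1).1,
    ⟨0, 1, Wl, Q1, Q2, Q3, RD, a1, a2, a3, AR, AB, sm, fun i hi => (add_eq_zero' (add_eq_zero' (h1 i hi)).1).2, re,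
      fun i hi => (add_eq_zero' (add_eq_zero' (h1 i hi)).2).1, rels_eq ▸ C22.closes, h2⟩,
    C22.T_inv, fun i hi => (add_eq_zero' (add_eq_zero' (h1 i hi)).2).2⟩

end Cfsg.Agent.Fi.S22
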