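import Cfsg.Agent.Lib.Fischer.S22.D

set_option autoImplicit false
set_option maxRecDepth 100000

namespace Cfsg.Agent.Fi.S22

open Cfsg.Agent.PC

theorem u0 : Nat.beq (rng f1 (nat_lit 0) (nat_lit 693)) (nat_lit 0) = true := by decide +kernel
theorem v0 : Nat.beq (rng f2 (nat_lit 0) (nat_lit 3510)) (nat_lit 0) = true := by decide +kernel

end Cfsg.Agent.Fi.S22
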